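import Groth.Prelude.Def_Formal2
import Groth.Agent.AdicC27.Approx

/-!
Formal cohomology for a principal ideal in an abstract cohomology theory of modules.
-/

set_option autoImplicit false
set_option backward.isDefEq.respectTransparency.types false

noncomputable section

universe u

open CategoryTheory CategoryTheory.Limits AlgebraicGeometry Opposite TopologicalSpace

namespace Groth.Agent.FormalLC27


/-- A cohomology theory on modules with a map from the module to degree zero. -/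
structure Theory (A : Type u) [CommRing A] where
  /-- The groups. -/
  F : ℕ → ModuleCat.{u} A ⥤ ModuleCat.{u} A
  smul_map : ∀ (j : ℕ) {M N : ModuleCat.{u} A} (φ : M ⟶ N) (a : A) (x : (F j).obj M),
    (F j).map (a • φ) x = (F j).map φ (a • x)
  /-- The connecting map. -/
  δ : ∀ {M : Type u} [AddCommGroup M] [Module A M] (L : Submodule A M) (j : ℕ),
    (F j).obj (ModuleCat.of A (M ⧸ L)) →ₗ[A] (F (j + 1)).obj (ModuleCat.of A L)
  exact₂ : ∀ {M : Type u} [AddCommGroup M] [Module A M] (L : Submodule A M) (j : ℕ)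
    (x : (F j).obj (ModuleCat.of A M)), (F j).map (ModuleCat.ofHom L.mkQ) x = 0 →
      ∃ y, (F j).map (ModuleCat.ofHom L.subtype) y = x
  exact₃ : ∀ {M : Type u} [AddCommGroup M] [Module A M] (L : Submodule A M) (j : ℕ)
    (x : (F j).obj (ModuleCat.of A (M ⧸ L))), δ L j x = 0 →
      ∃ y, (F j).map (ModuleCat.ofHom L.mkQ) y = x
  δ_natural : ∀ {M : Type u} [AddCommGroup M] [Module A M] {L L' : Submodule A M} (h : L ≤ L') (j : ℕ)
    (x : (F j).obj (ModuleCat.of A (M ⧸ L))),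
    δ L' j ((F j).map (ModuleCat.ofHom (Submodule.mapQ L L' LinearMap.id h)) x) =
      (F (j + 1)).map (ModuleCat.ofHom (Submodule.inclusion h)) (δ L j x)
  /-- The map from the module. -/
  η : ∀ T : ModuleCat.{u} A, T →ₗ[A] (F 0).obj T
  η_natural : ∀ {T T' : ModuleCat.{u} A} (φ : T ⟶ T') (t : T), (F 0).map φ (η T t) = η T' (φ t)

variable {A : Type u} [CommRing A] (𝒯 : Theory A)

/-- The groups of the theory. -/
abbrev H (M : Type u) [AddCommGroup M] [Module A M] (j : ℕ) : Type u := (𝒯.F j).obj (ModuleCat.of A M)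

variable {M N P : Type u} [AddCommGroup M] [Module A M] [AddCommGroup N] [Module A N] [AddCommGroup P]
  [Module A P]

/-- The map induced by a linear map. -/
def hm (φ : M →ₗ[A] N) (j : ℕ) : H 𝒯 M j →ₗ[A] H 𝒯 N j := ((𝒯.F j).map (ModuleCat.ofHom φ)).hom

theorem hm_comp (φ : M →ₗ[A] N) (ψ : N →ₗ[A] P) (j : ℕ) (x : H 𝒯 M j) :
    hm 𝒯 ψ j (hm 𝒯 φ j x) = hm 𝒯 (ψ ∘ₗ φ) j x := by
  unfold hm
  rw [show ModuleCat.ofHom (ψ ∘ₗ φ) = ModuleCat.ofHom φ ≫ ModuleCat.ofHom ψ from rfl, Functor.map_comp]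
  rfl

theorem hm_smul (a : A) (φ : M →ₗ[A] N) (j : ℕ) (x : H 𝒯 M j) :
    hm 𝒯 (a • φ) j x = hm 𝒯 φ j (a • x) := 𝒯.smul_map j (ModuleCat.ofHom φ) a x

theorem hm_id (j : ℕ) (x : H 𝒯 M j) : hm 𝒯 (LinearMap.id : M →ₗ[A] M) j x = x := by
  change (𝒯.F j).map (𝟙 (ModuleCat.of A M)) x = x
  rw [CategoryTheory.Functor.map_id]
  rfl

theorem hm_eta (φ : M →ₗ[A] N) (m : M) :
    hm 𝒯 φ 0 (𝒯.η (ModuleCat.of A M) m) = 𝒯.η (ModuleCat.of A N) (φ m) :=
  𝒯.η_natural (ModuleCat.ofHom φ) m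

theorem subtype_eq_comp {L L' : Submodule A M} (h : L ≤ L') :
    L.subtype = L'.subtype ∘ₗ Submodule.inclusion h := rfl

theorem mapQ_mapQ {L₁ L₂ L₃ : Submodule A M} (h₁ : L₁ ≤ L₂) (h₂ : L₂ ≤ L₃) :
    Submodule.mapQ L₂ L₃ LinearMap.id h₂ ∘ₗ Submodule.mapQ L₁ L₂ LinearMap.id h₁ =
      Submodule.mapQ L₁ L₃ LinearMap.id (h₁.trans h₂) :=
  Submodule.linearMap_qext _ (LinearMap.ext fun _ => rfl)

theorem mapQ_mkQ {L₁ L₂ : Submodule A M} (h : L₁ ≤ L₂) :
    Submodule.mapQ L₁ L₂ LinearMap.id h ∘ₗ L₁.mkQ = L₂.mkQ := rfl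

variable (f : A)

/-- `f^(n+1) M`. -/
abbrev fpow (M : Type u) [AddCommGroup M] [Module A M] (n : ℕ) : Submodule A M :=
  Ideal.span {f} ^ (n + 1) • ⊤

theorem mem_fpow {n : ℕ} {y : M} : y ∈ fpow f M n ↔ ∃ x, f ^ (n + 1) • x = y := by
  rw [fpow, Ideal.span_singleton_pow, Submodule.ideal_span_singleton_smul]
  exact ⟨fun h => by obtain ⟨x, -, hx⟩ := h; exact ⟨x, hx⟩, fun ⟨x, hx⟩ => ⟨x, trivial, hx⟩⟩

theorem fpow_le {m n : ℕ} (h : n ≤ m) : fpow f M m ≤ fpow f M n :=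
  Submodule.smul_mono_left (Ideal.pow_le_pow_right (Nat.succ_le_succ h))

/-- `M → f^(n+1) M`. -/
def mu (M : Type u) [AddCommGroup M] [Module A M] (n : ℕ) : M →ₗ[A] fpow f M n :=
  LinearMap.codRestrict _ (f ^ (n + 1) • LinearMap.id) fun x => (mem_fpow f).mpr ⟨x, rfl⟩

theorem mu_coe (n : ℕ) (x : M) : (mu f M n x : M) = f ^ (n + 1) • x := rfl

theorem mu_surjective (n : ℕ) : Function.Surjective (mu f M n) := fun y => by
  obtain ⟨x, hx⟩ := (mem_fpow f).mp y.2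
  exact ⟨x, Subtype.ext hx⟩

theorem exists_torsion_bound [IsNoetherian A M] :
    ∃ c : ℕ, ∀ (k : ℕ) (x : M), f ^ k • x = 0 → f ^ c • x = 0 := by
  let T : ℕ →o Submodule A M := ⟨fun k => LinearMap.ker (f ^ k • (LinearMap.id : M →ₗ[A] M)), fun k l hkl x hx => by
    simp only [LinearMap.mem_ker, LinearMap.smul_apply, LinearMap.id_apply] at hx ⊢
    obtain ⟨r, rfl⟩ := Nat.exists_eq_add_of_le hkl
    rw [add_comm, pow_add, mul_smul, hx, smul_zero]⟩
  obtain ⟨c, hc⟩ := monotone_stabilizes_iff_noetherian.mpr inferInstance T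
  refine ⟨c, fun k x hx => ?_⟩
  rcases le_total k c with h | h
  · exact T.monotone h hx
  · exact (hc k h).ge (show x ∈ T k from hx)

theorem exists_incl_factor {c : ℕ} (hc : ∀ (k : ℕ) (x : M), f ^ k • x = 0 → f ^ c • x = 0) (n d : ℕ) :
    ∃ ν : fpow f M (n + c + d) →ₗ[A] M,
      Submodule.inclusion (fpow_le f (by omega : n ≤ n + c + d)) = mu f M n ∘ₗ (f ^ d • ν) := by
  let e := (mu f M (n + c + d)).quotKerEquivOfSurjective (mu_surjective f _)
  have hk : LinearMap.ker (mu f M (n + c + d)) ≤ LinearMap.ker (f ^ c • (LinearMap.id : M →ₗ[A] M)) :=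
    fun x hx => hc _ x (congrArg Subtype.val (LinearMap.mem_ker.mp hx))
  refine ⟨(LinearMap.ker (mu f M (n + c + d))).liftQ _ hk ∘ₗ e.symm.toLinearMap, LinearMap.ext fun y => ?_⟩
  obtain ⟨x, rfl⟩ := mu_surjective f (n + c + d) y
  have he : e.symm (mu f M (n + c + d) x) = Submodule.Quotient.mk x := e.symm_apply_eq.mpr rfl
  apply Subtype.ext
  simp only [LinearMap.comp_apply, LinearMap.smul_apply, LinearEquiv.coe_coe, he, Submodule.liftQ_apply]
  change f ^ (n + c + d + 1) • x = f ^ (n + 1) • f ^ d • f ^ c • x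
  rw [← mul_smul, ← mul_smul, ← pow_add, ← pow_add]
  congr 2
  omega

theorem hm_incl_eq_zero {c d : ℕ} (hc : ∀ (k : ℕ) (x : M), f ^ k • x = 0 → f ^ c • x = 0) {j : ℕ}
    (hd : ∀ x : H 𝒯 M j, f ^ d • x = 0) (n : ℕ) (y : H 𝒯 (fpow f M (n + c + d)) j) :
    hm 𝒯 (Submodule.inclusion (fpow_le f (by omega : n ≤ n + c + d))) j y = 0 := by
  obtain ⟨ν, hν⟩ := exists_incl_factor f hc n d
  rw [hν, ← hm_comp, hm_smul, map_smul, hd, map_zero]

theorem hm_subtype_eq {c d : ℕ} (hc : ∀ (k : ℕ) (x : M), f ^ k • x = 0 → f ^ c • x = 0)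
    (hd : ∀ x : H 𝒯 M 0, f ^ d • x ∈ LinearMap.range (𝒯.η (ModuleCat.of A M))) (n : ℕ)
    (y : H 𝒯 (fpow f M (n + c + d)) 0) :
    ∃ m : M, hm 𝒯 (fpow f M (n + c + d)).subtype 0 y = 𝒯.η (ModuleCat.of A M) (f ^ (n + 1) • m) := by
  obtain ⟨ν, hν⟩ := exists_incl_factor f hc n d
  have e := subtype_eq_comp (fpow_le (M := M) f (by omega : n ≤ n + c + d))
  obtain ⟨m, hm'⟩ := hd (hm 𝒯 ν 0 y)
  refine ⟨m, ?_⟩
  rw [e, hν, ← hm_comp, ← hm_comp, hm_smul, map_smul (hm 𝒯 ν 0), ← hm', hm_eta, hm_eta, Submodule.subtype_apply]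
  exact congrArg (𝒯.η (ModuleCat.of A M)) (mu_coe f n m)

/-- The connecting map. -/
def dlt (L : Submodule A M) (j : ℕ) : H 𝒯 (M ⧸ L) j →ₗ[A] H 𝒯 L (j + 1) := 𝒯.δ L j

theorem exists_eq_hm_subtype (L : Submodule A M) (j : ℕ) {x : H 𝒯 M j} (hx : hm 𝒯 L.mkQ j x = 0) :
    ∃ y : H 𝒯 L j, hm 𝒯 L.subtype j y = x :=
  𝒯.exact₂ L j x hx

theorem exists_lift_of_dlt (L : Submodule A M) (j : ℕ) {x : H 𝒯 (M ⧸ L) j} (hx : dlt 𝒯 L j x = 0) :
    ∃ y : H 𝒯 M j, hm 𝒯 L.mkQ j y = x :=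
  𝒯.exact₃ L j x hx

theorem dlt_natural {L L' : Submodule A M} (h : L ≤ L') (j : ℕ) (x : H 𝒯 (M ⧸ L) j) :
    dlt 𝒯 L' j (hm 𝒯 (Submodule.mapQ L L' LinearMap.id h) j x) =
      hm 𝒯 (Submodule.inclusion h) (j + 1) (dlt 𝒯 L j x) :=
  𝒯.δ_natural h j x

theorem mapQ_compat {j : ℕ} (σ : ∀ n, H 𝒯 (Formal2.quotPow A (Ideal.span {f}) M n) j)
    (hσ : ∀ n, hm 𝒯 (Formal2.quotPowTrans A (Ideal.span {f}) M n) j (σ (n + 1)) = σ n) {m n : ℕ} (h : n ≤ m) :
    hm 𝒯 (Submodule.mapQ (fpow f M m) (fpow f M n) LinearMap.id (fpow_le f h)) j (σ m) = σ n := by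
  induction m, h using Nat.le_induction with
  | base => rw [Submodule.mapQ_id]; exact hm_id 𝒯 j _
  | succ m hm' ih =>
    conv_rhs => rw [← ih, ← hσ m, hm_comp]
    congr 2
    exact (mapQ_mapQ _ _).symm

theorem hm_mkQ_of_mkQ {j : ℕ} (σ : ∀ n, H 𝒯 (Formal2.quotPow A (Ideal.span {f}) M n) j)
    (hσ : ∀ n, hm 𝒯 (Formal2.quotPowTrans A (Ideal.span {f}) M n) j (σ (n + 1)) = σ n) {m n : ℕ} (h : n ≤ m)
    {x : H 𝒯 M j} (hx : hm 𝒯 (fpow f M m).mkQ j x = σ m) : hm 𝒯 (fpow f M n).mkQ j x = σ n := by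
  rw [← mapQ_compat 𝒯 f σ hσ h, ← hx, hm_comp, mapQ_mkQ]

variable [IsNoetherianRing A] [Module.Finite A M]

variable [IsAdicComplete (Ideal.span {f}) A]

theorem bijective_formal {s d : ℕ}
    (hd0 : ∀ x : H 𝒯 M 0, f ^ d • x ∈ LinearMap.range (𝒯.η (ModuleCat.of A M)))
    (hd : ∀ j, 0 < j → j ≤ s → ∀ x : H 𝒯 M j, f ^ d • x = 0)
    {i : ℕ} (hi : i < s) :
    (∀ x : H 𝒯 M i, (∀ n, hm 𝒯 (fpow f M n).mkQ i x = 0) → x = 0) ∧
    ∀ σ : ∀ n, H 𝒯 (Formal2.quotPow A (Ideal.span {f}) M n) i,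
      (∀ n, hm 𝒯 (Formal2.quotPowTrans A (Ideal.span {f}) M n) i (σ (n + 1)) = σ n) →
        ∃ x : H 𝒯 M i, ∀ n, hm 𝒯 (fpow f M n).mkQ i x = σ n := by
  obtain ⟨c, hc⟩ := exists_torsion_bound (M := M) f
  haveI : IsAdicComplete (Ideal.span {f}) M := AdicC27.isAdicComplete_of_finite M
  let R := LinearMap.range (𝒯.η (ModuleCat.of A M))
  haveI : IsAdicComplete (Ideal.span {f}) R := AdicC27.isAdicComplete_of_finite R
  refine ⟨fun x hx => ?_, fun σ hσ => ?_⟩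
  · choose y hy using fun n => exists_eq_hm_subtype 𝒯 (fpow f M n) i (hx n)
    rcases Nat.eq_zero_or_pos i with rfl | hi0
    · choose m hm' using fun n => hm_subtype_eq 𝒯 f hc hd0 n (y (n + c + d))
      have hxn : ∀ n, x = 𝒯.η (ModuleCat.of A M) (f ^ (n + 1) • m n) := fun n =>
        (hy (n + c + d)).symm.trans (hm' n)
      let xR : R := ⟨x, _, (hxn 0).symm⟩
      have : xR = 0 := IsHausdorff.haus (I := Ideal.span {f}) inferInstance xR fun n => by
        rw [SModEq.zero]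
        have e : xR = f ^ (n + 1) • (⟨_, m n, rfl⟩ : R) := Subtype.ext ((hxn n).trans (map_smul _ _ _))
        rw [e]
        exact Submodule.smul_mem_smul (Ideal.pow_le_pow_right (Nat.le_succ n)
          (Ideal.pow_mem_pow (Ideal.mem_span_singleton_self f) _)) trivial
      exact congrArg Subtype.val this
    · have h0 := hm_incl_eq_zero 𝒯 f hc (hd i hi0 hi.le) 0 (y (0 + c + d))
      rw [← hy (0 + c + d), subtype_eq_comp (fpow_le (M := M) f (Nat.zero_le (0 + c + d))), ← hm_comp, h0, map_zero]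
  · have hlift : ∀ n, ∃ x : H 𝒯 M i, hm 𝒯 (fpow f M n).mkQ i x = σ n := fun n => by
      refine exists_lift_of_dlt 𝒯 _ i ?_
      rw [← mapQ_compat 𝒯 f σ hσ (by omega : n ≤ n + c + d), dlt_natural]
      exact hm_incl_eq_zero 𝒯 f hc (hd (i + 1) (by omega) hi) n _
    choose t ht using hlift
    let x : ℕ → H 𝒯 M i := fun n => t (n + c + d)
    have hxσ : ∀ n, hm 𝒯 (fpow f M n).mkQ i (x n) = σ n := fun n =>
      hm_mkQ_of_mkQ 𝒯 f σ hσ (by omega) (ht (n + c + d))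
    have hdiff : ∀ n, ∃ y : H 𝒯 (fpow f M (n + c + d)) i,
        hm 𝒯 (fpow f M (n + c + d)).subtype i y = x (n + 1) - x n := fun n => by
      refine exists_eq_hm_subtype 𝒯 _ i ?_
      rw [map_sub, hm_mkQ_of_mkQ 𝒯 f σ hσ (by omega) (ht (n + 1 + c + d)), ht, sub_self]
    choose y hy using hdiff
    rcases Nat.eq_zero_or_pos i with rfl | hi0
    · choose m hm' using fun n => hm_subtype_eq 𝒯 f hc hd0 n (y n)
      let P : ℕ → M := fun n => ∑ k ∈ Finset.range n, f ^ (k + 1) • m k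
      have hP : ∀ n, x n = x 0 + 𝒯.η (ModuleCat.of A M) (P n) := fun n => by
        induction n with
        | zero => simp [P]
        | succ n ih =>
          have e := (hy n).symm.trans (hm' n)
          rw [sub_eq_iff_eq_add'.mp e, ih, add_assoc, ← map_add]
          simp [P, Finset.sum_range_succ]
      have hstep : ∀ n, P (n + 1) - P n ∈ fpow f M n := fun n => by
        simp only [P, Finset.sum_range_succ, add_sub_cancel_left]
        exact (mem_fpow f).mpr ⟨_, rfl⟩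
      obtain ⟨L, hL⟩ := IsPrecomplete.prec (I := Ideal.span {f}) inferInstance (f := P) fun {a b} hab => by
        induction b, hab using Nat.le_induction with
        | base => exact SModEq.refl _
        | succ b hb ih =>
          refine ih.trans (SModEq.sub_mem.mpr ?_)
          rw [← neg_sub]
          exact neg_mem (Submodule.smul_mono_left (Ideal.pow_le_pow_right (by omega)) (hstep b))
      refine ⟨x 0 + 𝒯.η (ModuleCat.of A M) L, fun n => ?_⟩
      rw [← hm_mkQ_of_mkQ 𝒯 f σ hσ (Nat.le_succ n) (hxσ (n + 1)), hP (n + 1), map_add, map_add, hm_eta, hm_eta]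
      congr 2
      exact ((Submodule.Quotient.eq _).mpr (SModEq.sub_mem.mp (hL (n + 1)))).symm
    · have hx : ∀ n, x n = x 0 := fun n => by
        induction n with
        | zero => rfl
        | succ n ih =>
          refine (sub_eq_zero.mp ?_).trans ih
          have h0 := hm_incl_eq_zero 𝒯 f hc (hd i hi0 hi.le) n (y n)
          rw [← hy n, subtype_eq_comp (fpow_le (M := M) f (by omega : n ≤ n + c + d)), ← hm_comp, h0, map_zero]
      exact ⟨x 0, fun n => hx n ▸ hxσ n⟩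

end Groth.Agent.FormalLC27
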