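import Groth.Agent.FormalLC27.OpenCoh
import Groth.Agent.FormalLC27.Core

/-!
Formal cohomology of a punctured spectrum for a principal ideal, from torsion local cohomology.
-/

set_option autoImplicit false
set_option backward.isDefEq.respectTransparency.types false

noncomputable section

universe u

open CategoryTheory CategoryTheory.Limits AlgebraicGeometry Opposite TopologicalSpace

namespace Groth.Agent.FormalLC27

open LC16

theorem gδ_natural {C : Type*} [Category C] [Abelian C] [HasExt.{u} C] {Z : C} {S T : ShortComplex C}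
    (hS : S.ShortExact) (hT : T.ShortExact) (ψ : S ⟶ T) (n : ℕ) (x : Abelian.Ext.{u} Z S.X₃ n) :
    Crv77.gδ.{u} Z hT n (x.comp (Abelian.Ext.mk₀ ψ.τ₃) (add_zero n)) =
      (Crv77.gδ.{u} Z hS n x).comp (Abelian.Ext.mk₀ ψ.τ₁) (add_zero (n + 1)) := by
  change Abelian.Ext.comp (Abelian.Ext.comp x _ (add_zero n)) hT.extClass rfl =
    Abelian.Ext.comp (Abelian.Ext.comp x hS.extClass rfl) _ (add_zero (n + 1))
  rw [Abelian.Ext.comp_assoc_of_second_deg_zero, Abelian.Ext.comp_assoc_of_third_deg_zero,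
    ShortComplex.ShortExact.extClass_naturality hS hT ψ]

theorem hδ_natural (A : Type u) [CommRing A] {X : Scheme.{u}} [X.Over (Spec (CommRingCat.of A))]
    {S T : ShortComplex X.Modules} (hS : S.ShortExact) (hT : T.ShortExact) (φ : S ⟶ T) (n : ℕ)
    (x : Coh.HH X S.X₃ n) :
    Crv77.hδ A hT n (Crv77.hmap A φ.τ₃ n x) = Crv77.hmap A φ.τ₁ (n + 1) (Crv77.hδ A hS n x) := by
  exact gδ_natural (Crv77.abComplex_shortExact hS) (Crv77.abComplex_shortExact hT)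
    ((Crv77.toAbF X).mapShortComplex.map φ) n x

variable {A : Type u} [CommRing A] (𝔞 : Ideal A)

theorem seq_shortExact {M : Type u} [AddCommGroup M] [Module A M] (L : Submodule A M) :
    ((LC15.seqSC (LinearMap.exact_subtype_mkQ L)).map (PH.psiF 𝔞)).ShortExact :=
  PH.psiSC_shortExact 𝔞 L.injective_subtype (LinearMap.exact_subtype_mkQ L) L.mkQ_surjective

/-- `H^j(U, ·~)` as a functor. -/
def hFun (j : ℕ) : ModuleCat.{u} A ⥤ ModuleCat.{u} A where
  obj T := ModuleCat.of A (Coh.HH (PH.US 𝔞) (PH.psi 𝔞 T) j)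
  map φ := ModuleCat.ofHom (Crv77.hmap A ((PH.psiF 𝔞).map φ) j)
  map_id T := ModuleCat.hom_ext (LinearMap.ext fun x =>
    (congrArg (fun χ => Crv77.hmap A χ j x) ((PH.psiF 𝔞).map_id T)).trans (Crv77.hmap_id A _ j x))
  map_comp φ ψ := ModuleCat.hom_ext (LinearMap.ext fun x =>
    (congrArg (fun χ => Crv77.hmap A χ j x) ((PH.psiF 𝔞).map_comp φ ψ)).trans (Crv77.hmap_comp A _ _ j x).symm)

theorem smul_map (j : ℕ) {M N : ModuleCat.{u} A} (φ : M ⟶ N) (a : A) (x : (hFun 𝔞 j).obj M) :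
    (hFun 𝔞 j).map (a • φ) x = (hFun 𝔞 j).map φ (a • x) := by
  have e : (hFun 𝔞 j).map (a • φ) = (hFun 𝔞 j).map (a • 𝟙 M) ≫ (hFun 𝔞 j).map φ := by
    rw [← Functor.map_comp, Linear.smul_comp, Category.id_comp]
  rw [e]
  exact congrArg ((hFun 𝔞 j).map φ) (PH.hmap_smul_id 𝔞 M a j x)

theorem δ_natural {M : Type u} [AddCommGroup M] [Module A M] {L L' : Submodule A M} (h : L ≤ L') (j : ℕ)
    (x : (hFun 𝔞 j).obj (ModuleCat.of A (M ⧸ L))) :
    Crv77.hδ A (seq_shortExact 𝔞 L') j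
        ((hFun 𝔞 j).map (ModuleCat.ofHom (Submodule.mapQ L L' LinearMap.id h)) x) =
      (hFun 𝔞 (j + 1)).map (ModuleCat.ofHom (Submodule.inclusion h)) (Crv77.hδ A (seq_shortExact 𝔞 L) j x) := by
  let φ : LC15.seqSC (LinearMap.exact_subtype_mkQ L) ⟶ LC15.seqSC (LinearMap.exact_subtype_mkQ L') :=
    { τ₁ := ModuleCat.ofHom (Submodule.inclusion h)
      τ₂ := 𝟙 _
      τ₃ := ModuleCat.ofHom (Submodule.mapQ L L' LinearMap.id h)
      comm₁₂ := rfl
      comm₂₃ := rfl }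
  exact hδ_natural A (seq_shortExact 𝔞 L) (seq_shortExact 𝔞 L') ((PH.psiF 𝔞).mapShortComplex.map φ) j x

/-- Cohomology of the punctured spectrum as a theory. -/
def punct : Theory A where
  F := hFun 𝔞
  smul_map := smul_map 𝔞
  δ L j := Crv77.hδ A (seq_shortExact 𝔞 L) j
  exact₂ L j x hx := (Crv77.exact_f_g A (seq_shortExact 𝔞 L) j x).1 hx
  exact₃ L j x hx := (Crv77.exact_g_δ A (seq_shortExact 𝔞 L) j x).1 hx
  δ_natural := δ_natural 𝔞
  η := PH.eta 𝔞
  η_natural := PH.eta_natural 𝔞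

variable {M : Type u} [AddCommGroup M] [Module A M] (f : A)
variable [IsNoetherianRing A]

theorem exists_kill_one {d : ℕ} (h : ∀ x : LocCoh.H 𝔞 1 M, f ^ d • x = 0) (x : H (punct 𝔞) M 0) :
    f ^ d • x ∈ LinearMap.range ((punct 𝔞).η (ModuleCat.of A M)) := by
  obtain ⟨e⟩ := PH.nonempty_coker_eta 𝔞 M
  let x' : Coh.HH (PH.US 𝔞) (PH.psi 𝔞 (ModuleCat.of A M)) 0 := x
  exact (Submodule.Quotient.mk_eq_zero (LinearMap.range (PH.eta 𝔞 (ModuleCat.of A M))) (x := f ^ d • x')).mp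
    (e.injective ((e.map_smul (f ^ d) (Submodule.Quotient.mk x')).trans ((h _).trans e.map_zero.symm)))

theorem exists_kill_succ {d j : ℕ} (h : ∀ x : LocCoh.H 𝔞 (j + 2) M, f ^ d • x = 0) (x : H (punct 𝔞) M (j + 1)) :
    f ^ d • x = 0 := by
  obtain ⟨e⟩ := PH.nonempty_HH_equiv 𝔞 j M
  exact e.injective ((e.map_smul (f ^ d) _).trans ((h _).trans e.map_zero.symm))

theorem exists_bound {s : ℕ} (h : ∀ i : ℕ, i ≤ s + 1 → ∃ n : ℕ, ∀ x : LocCoh.H 𝔞 i M, f ^ n • x = 0) :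
    ∃ d : ℕ, (∀ x : H (punct 𝔞) M 0, f ^ d • x ∈ LinearMap.range ((punct 𝔞).η (ModuleCat.of A M))) ∧
      ∀ j, 0 < j → j ≤ s → ∀ x : H (punct 𝔞) M j, f ^ d • x = 0 := by
  choose g hg using h
  let d := ∑ i ∈ (Finset.range (s + 2)).attach, g i.1 (by have := Finset.mem_range.1 i.2; omega)
  have hd : ∀ (i : ℕ) (hi : i ≤ s + 1) (x : LocCoh.H 𝔞 i M), f ^ d • x = 0 := fun i hi x => by
    have hle : g i hi ≤ d := Finset.single_le_sum
      (f := fun i : {i // i ∈ Finset.range (s + 2)} => g i.1 (by have := Finset.mem_range.1 i.2; omega))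
      (fun _ _ => Nat.zero_le _) (Finset.mem_attach _ ⟨i, Finset.mem_range.2 (by omega)⟩)
    obtain ⟨r, hr⟩ := Nat.exists_eq_add_of_le hle
    rw [hr, add_comm, pow_add, mul_smul, hg, smul_zero]
  refine ⟨d, exists_kill_one 𝔞 f (hd 1 (by omega)), fun j hj hjs => ?_⟩
  obtain ⟨j, rfl⟩ := Nat.exists_eq_succ_of_ne_zero hj.ne'
  exact exists_kill_succ 𝔞 f (hd (j + 2) (by omega))

variable [Module.Finite A M] [IsAdicComplete (Ideal.span {f}) A]

theorem formalCohBijective {s : ℕ} (h : ∀ i : ℕ, i ≤ s + 1 → ∃ n : ℕ, ∀ x : LocCoh.H 𝔞 i M, f ^ n • x = 0)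
    {i : ℕ} (hi : i < s) :
    Formal2.FormalCohBijective A (Ideal.span {f}) M i (LocCoh.puncturedOpen A 𝔞) := by
  obtain ⟨d, hd0, hd⟩ := exists_bound 𝔞 f h
  obtain ⟨hinj, hsurj⟩ := bijective_formal (punct 𝔞) f hd0 hd hi
  let e : ∀ n, Formal2.HV A (Formal2.quotPow A (Ideal.span {f}) M n) i (LocCoh.puncturedOpen A 𝔞) ≃+
      H (punct 𝔞) (Formal2.quotPow A (Ideal.span {f}) M n) i :=
    fun n => hvEquiv 𝔞 i (ModuleCat.of A (Formal2.quotPow A (Ideal.span {f}) M n))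
  let e₀ : Formal2.HV A M i (LocCoh.puncturedOpen A 𝔞) ≃+ H (punct 𝔞) M i := hvEquiv 𝔞 i (ModuleCat.of A M)
  have hπ : ∀ n x, e n (Formal2.HVmap A (Formal2.quotPowπ A (Ideal.span {f}) M n) i _ x) =
      hm (punct 𝔞) (Formal2.quotPowπ A (Ideal.span {f}) M n) i (e₀ x) := fun n x =>
    hvEquiv_map 𝔞 i (Formal2.quotPowπ A (Ideal.span {f}) M n) x
  have htr : ∀ n x, e n (Formal2.HVmap A (Formal2.quotPowTrans A (Ideal.span {f}) M n) i _ x) =
      hm (punct 𝔞) (Formal2.quotPowTrans A (Ideal.span {f}) M n) i (e (n + 1) x) := fun n x =>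
    hvEquiv_map 𝔞 i (Formal2.quotPowTrans A (Ideal.span {f}) M n) x
  refine ⟨fun x x' hxx' => e₀.injective (sub_eq_zero.mp (hinj _ fun n => ?_)), fun y hy => ?_⟩
  · exact (map_sub (hm (punct 𝔞) (Formal2.quotPowπ A (Ideal.span {f}) M n) i) (e₀ x) (e₀ x')).trans
      (sub_eq_zero.mpr (((hπ n x).symm.trans (congrArg (e n) (hxx' n))).trans (hπ n x')))
  · obtain ⟨x, hx⟩ := hsurj (fun n => e n (y n)) fun n => (htr n _).symm.trans (congrArg (e n) (hy n))
    refine ⟨e₀.symm x, fun n => (e n).injective ((hπ n _).trans ?_)⟩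
    exact (congrArg (hm (punct 𝔞) (Formal2.quotPowπ A (Ideal.span {f}) M n) i) (e₀.apply_symm_apply x)).trans (hx n)

omit [IsAdicComplete (Ideal.span {f}) A] in
theorem exists_kill_zero (hf : f ∈ 𝔞) : ∃ n : ℕ, ∀ x : LocCoh.H 𝔞 0 M, f ^ n • x = 0 := by
  obtain ⟨c, hc⟩ := exists_torsion_bound (M := M) f
  refine ⟨c, fun x => ?_⟩
  obtain ⟨k, hk⟩ := LC15.isPowerTorsion_H 𝔞 0 x
  have hfk : f ^ k • x = 0 := hk _ (Ideal.pow_mem_pow hf k)
  exact LC15.h0_injective 𝔞 M (by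
    rw [map_zero, map_smul]
    exact hc k _ (by rw [← map_smul, hfk, map_zero]))

end Groth.Agent.FormalLC27
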