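import Groth.Agent.LC16.PunctH
import Groth.Agent.SiteCoh.ExtCompare
import Groth.Prelude.Def_Formal2

/-!
Naturality of the comparison of cohomology over an open with cohomology of the open subscheme.
-/

set_option autoImplicit false
set_option backward.isDefEq.respectTransparency.types false

noncomputable section

universe u

open CategoryTheory CategoryTheory.Limits AlgebraicGeometry Opposite TopologicalSpace CategoryTheory.Abelian

namespace Groth.Agent.FormalLC27

open Coh69

variable {X Y : TopCat.{u}} {f : X ⟶ Y} (hf : Topology.IsOpenEmbedding f)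

/-- The tautological section of the free sheaf, restricted. -/
def eta0 (W : Opens X) : CohCx.freeSheaf (Opens.grothendieckTopology X) W ⟶
    (restrSh hf).obj (CohCx.freeSheaf (Opens.grothendieckTopology Y) (hf.functor.obj W)) :=
  (SiteCoh.homAddEquivSec W ((restrSh hf).obj (CohCx.freeSheaf (Opens.grothendieckTopology Y) (hf.functor.obj W)))).symm
    (SiteCoh.freeSec (Opens.grothendieckTopology Y) (hf.functor.obj W))

theorem bijective_eta0 (W : Opens X) (F : Sheaf (Opens.grothendieckTopology Y) AddCommGrpCat.{u}) :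
    Function.Bijective fun φ : CohCx.freeSheaf _ (hf.functor.obj W) ⟶ F => eta0 hf W ≫ (restrSh hf).map φ := by
  have e : (fun φ : CohCx.freeSheaf _ (hf.functor.obj W) ⟶ F => eta0 hf W ≫ (restrSh hf).map φ) =
      (SiteCoh.homAddEquivSec W ((restrSh hf).obj F)).symm ∘ SiteCoh.homAddEquivSec (hf.functor.obj W) F := by
    funext φ
    exact (SiteCoh.homAddEquivSec_symm_comp _ ((restrSh hf).map φ))
  rw [e]
  exact (AddEquiv.bijective _).comp (AddEquiv.bijective _)

theorem preservesFiniteLimits_restrSh : PreservesFiniteLimits (restrSh hf) :=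
  @preservesFiniteLimits_of_natIso _ _ _ _ _ _ (hf.sheafPullbackIso AddCommGrpCat.{u})
    (pullback_preservesFiniteLimits f)

theorem preservesFiniteColimits_restrSh : PreservesFiniteColimits (restrSh hf) := by
  have h0 : PreservesColimitsOfSize.{0, 0} (TopCat.Sheaf.pullback AddCommGrpCat.{u} f) :=
    (TopCat.Sheaf.pullbackPushforwardAdjunction AddCommGrpCat.{u} f).leftAdjoint_preservesColimits
  exact @preservesFiniteColimits_of_natIso _ _ _ _ _ _ (hf.sheafPullbackIso AddCommGrpCat.{u})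
    ⟨fun K _ _ => h0.preservesColimitsOfShape⟩

/-- Restriction of classes to the open subspace. -/
def restrE (F : Sheaf (Opens.grothendieckTopology Y) AddCommGrpCat.{u}) (n : ℕ) (W : Opens X) :
    HE F n (hf.functor.obj W) →+ HE ((restrSh hf).obj F) n W :=
  haveI := preservesFiniteLimits_restrSh hf
  haveI := preservesFiniteColimits_restrSh hf
  SiteCoh.extTransfer (restrSh hf) (eta0 hf W) F n

theorem restrE_map {F G : Sheaf (Opens.grothendieckTopology Y) AddCommGrpCat.{u}} (φ : F ⟶ G) (n : ℕ)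
    (W : Opens X) (x : HE F n (hf.functor.obj W)) :
    restrE hf G n W (x.comp (Ext.mk₀ φ) (add_zero n)) =
      (restrE hf F n W x).comp (Ext.mk₀ ((restrSh hf).map φ)) (add_zero n) :=
  haveI := preservesFiniteLimits_restrSh hf
  haveI := preservesFiniteColimits_restrSh hf
  SiteCoh.extTransfer_naturality _ _ x φ

theorem bijective_restrE (F : Sheaf (Opens.grothendieckTopology Y) AddCommGrpCat.{u}) (n : ℕ) (W : Opens X) :
    Function.Bijective (restrE hf F n W) :=
  haveI := preservesFiniteLimits_restrSh hf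
  haveI := preservesFiniteColimits_restrSh hf
  SiteCoh.extTransfer_bijective _ _ (bijective_eta0 hf W)
    (fun J _ m => restr_injective_acyclic hf J m W) n F

variable {X : Scheme.{u}} (U : X.Opens)

/-- Classes on an open as classes on the open subscheme. -/
def openE (N : X.Modules) (n : ℕ) :
    HE (Coh.toAb N) n (U.ι ''ᵁ ⊤) ≃+ HE (Coh.toAb (N.restrict U.ι)) n (⊤ : (U : Scheme.{u}).Opens) :=
  AddEquiv.ofBijective (restrE U.ι.isOpenEmbedding (Coh.toAb N) n ⊤)
    (bijective_restrE U.ι.isOpenEmbedding (Coh.toAb N) n ⊤)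

theorem openE_map {N N' : X.Modules} (φ : N ⟶ N') (n : ℕ) (x : HE (Coh.toAb N) n (U.ι ''ᵁ ⊤)) :
    openE U N' n (x.comp (Ext.mk₀ ((SheafOfModules.toSheaf _).map φ)) (add_zero n)) =
      (openE U N n x).comp (Ext.mk₀ ((SheafOfModules.toSheaf _).map
        ((Scheme.Modules.restrictFunctor U.ι).map φ))) (add_zero n) :=
  restrE_map U.ι.isOpenEmbedding ((SheafOfModules.toSheaf _).map φ) n ⊤ x

/-- Classes on an open as cohomology of the open subscheme. -/
def openH (N : X.Modules) (n : ℕ) :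
    HE (Coh.toAb N) n (U.ι ''ᵁ ⊤) ≃+ Coh.HH (U : Scheme.{u}) (N.restrict U.ι) n :=
  (openE U N n).trans (Coh69.hhEquiv (N.restrict U.ι) n).symm

theorem openH_map {N N' : X.Modules} (φ : N ⟶ N') (n : ℕ) (x : HE (Coh.toAb N) n (U.ι ''ᵁ ⊤)) :
    openH U N' n (x.comp (Ext.mk₀ ((SheafOfModules.toSheaf _).map φ)) (add_zero n)) =
      Sheaf.H.map ((SheafOfModules.toSheaf _).map ((Scheme.Modules.restrictFunctor U.ι).map φ)) n
        (openH U N n x) := by
  refine (Coh69.hhEquiv (N'.restrict U.ι) n).symm_apply_eq.mpr ?_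
  refine (openE_map U φ n x).trans (Eq.trans ?_ (Coh69.hTerminalEquiv_map
    (isTerminalTop (α := (U : Scheme.{u}).Opens)) _ n (openH U N n x)).symm)
  exact (congrArg (fun a : HE (Coh.toAb (N.restrict U.ι)) n (⊤ : (U : Scheme.{u}).Opens) => a.comp
    (Ext.mk₀ ((SheafOfModules.toSheaf _).map ((Scheme.Modules.restrictFunctor U.ι).map φ))) (add_zero n))
    ((Coh69.hhEquiv (N.restrict U.ι) n).apply_symm_apply (openE U N n x))).symm

theorem exists_openH (n : ℕ) {V : X.Opens} (hV : U.ι ''ᵁ ⊤ = V) :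
    ∃ e : ∀ N : X.Modules, HE (Coh.toAb N) n V ≃+ Coh.HH (U : Scheme.{u}) (N.restrict U.ι) n,
      ∀ (N N' : X.Modules) (φ : N ⟶ N') (x : HE (Coh.toAb N) n V),
        e N' (x.comp (Ext.mk₀ ((SheafOfModules.toSheaf _).map φ)) (add_zero n)) =
          Sheaf.H.map ((SheafOfModules.toSheaf _).map ((Scheme.Modules.restrictFunctor U.ι).map φ)) n
            (e N x) := by
  subst hV
  exact ⟨fun N => openH U N n, fun N N' φ x => openH_map U φ n x⟩

variable {A : Type u} [CommRing A] (𝔞 : Ideal A)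

open LC16

theorem exists_hvEquiv (i : ℕ) {V : (Spec (CommRingCat.of A)).Opens} (hV : PH.V 𝔞 = V) :
    ∃ e : ∀ (M : ModuleCat.{u} A), Formal2.HV A M i V ≃+ Coh.HH (PH.US 𝔞) (PH.psi 𝔞 M) i,
      ∀ (M N : ModuleCat.{u} A) (φ : M ⟶ N) (x : Formal2.HV A M i V),
        e N (Formal2.HVmap A φ.hom i V x) = Crv77.hmap A ((PH.psiF 𝔞).map φ) i (e M x) := by
  obtain ⟨e, he⟩ := exists_openH (PH.UU 𝔞) i hV
  exact ⟨fun M => e (tilde (R := CommRingCat.of A) M), fun M N φ x =>
    he _ _ (tilde.map (R := CommRingCat.of A) φ) x⟩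

/-- `H^i(U, M~)` in the two models. -/
def hvEquiv (i : ℕ) (M : ModuleCat.{u} A) :
    Formal2.HV A M i (LocCoh.puncturedOpen A 𝔞) ≃+ Coh.HH (PH.US 𝔞) (PH.psi 𝔞 M) i :=
  (exists_hvEquiv 𝔞 i (PH.V_eq 𝔞)).choose M

theorem hvEquiv_map (i : ℕ) {M N : Type u} [AddCommGroup M] [Module A M] [AddCommGroup N] [Module A N]
    (φ : M →ₗ[A] N) (x : Formal2.HV A M i (LocCoh.puncturedOpen A 𝔞)) :
    hvEquiv 𝔞 i (ModuleCat.of A N) (Formal2.HVmap A φ i _ x) =
      Crv77.hmap A ((PH.psiF 𝔞).map (ModuleCat.ofHom φ)) i (hvEquiv 𝔞 i (ModuleCat.of A M) x) :=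
  (exists_hvEquiv 𝔞 i (PH.V_eq 𝔞)).choose_spec _ _ (ModuleCat.ofHom φ) x

end Groth.Agent.FormalLC27
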