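import Groth.Agent.Formal27.QuasiAffine
import Groth.Agent.FormalLC27.OpenCoh

/-!
Quotients `M~/I^n M~` on a punctured spectrum and the criterion for formal sections of `O`.
-/

set_option autoImplicit false
set_option backward.isDefEq.respectTransparency.types false

noncomputable section

universe u

open CategoryTheory CategoryTheory.Limits AlgebraicGeometry Opposite TopologicalSpace

namespace Groth.Agent.FormalLC27

section General

variable {A : Type u} [CommRing A] {X : Scheme.{u}} [X.Over (Spec (CommRingCat.of A))]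

/-- Bijectivity of `toHHlim` from any model of the quotients. -/
theorem bijective_toHHlim_of_model {I : Ideal A} {M : X.Modules} {p : ℕ} {P : X.Modules} (e : P ≅ M)
    (Q : ℕ → X.Modules) (q : ∀ n, P ⟶ Q n) (tr : ∀ n, Q (n + 1) ⟶ Q n)
    (θ : ∀ n, Formal.modPow I (n + 1) M ≅ Q n)
    (hθ : ∀ n, e.hom ≫ Formal.modPowπ I (n + 1) M ≫ (θ n).hom = q n)
    (htr : ∀ n, Formal.modPowTrans I (n + 1) M ≫ (θ n).hom = (θ (n + 1)).hom ≫ tr n)
    (hinj : ∀ x : Coh.HH X P p, (∀ n, Crv77.hmap A (q n) p x = 0) → x = 0)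
    (hsurj : ∀ σ : ∀ n, Coh.HH X (Q n) p, (∀ n, Crv77.hmap A (tr n) p (σ (n + 1)) = σ n) →
        ∃ x, ∀ n, Crv77.hmap A (q n) p x = σ n) :
    Function.Bijective (Formal.toHHlim I M p) := by
  let eH := Crv77.hEquiv A e p
  let θH := fun n => Crv77.hEquiv A (θ n) p
  have hq : ∀ n (x : Coh.HH X P p), θH n (Formal.toHHmodPow I M p n (eH x)) = Crv77.hmap A (q n) p x := fun n x => by
    refine ((Crv77.hmap_comp A _ _ p _).trans (Crv77.hmap_comp A _ _ p x)).trans ?_
    exact congrArg (fun χ => Crv77.hmap A χ p x) (hθ n)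
  refine ⟨(injective_iff_map_eq_zero _).2 fun x hx => ?_, fun y => ?_⟩
  · obtain ⟨x', rfl⟩ := eH.surjective x
    refine (congrArg eH (hinj x' fun n => ?_)).trans (map_zero eH)
    exact (hq n x').symm.trans ((congrArg (θH n)
      (congrArg (fun z : Formal.HHlim I M p => (z : ∀ n, Formal.HHmodPow I M p n) n) hx)).trans (map_zero (θH n)))
  · obtain ⟨x, hx⟩ := hsurj (fun n => θH n ((y : ∀ n, Formal.HHmodPow I M p n) n)) fun n => by
      refine ((Crv77.hmap_comp A _ _ p _).trans (congrArg (fun χ => Crv77.hmap A χ p _) (htr n).symm)).trans ?_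
      refine (Crv77.hmap_comp A _ _ p _).symm.trans ?_
      exact congrArg (θH n) (y.2 n)
    exact ⟨eH x, Subtype.ext (funext fun n => (θH n).injective ((hq n x).trans (hx n)))⟩

end General

open LC16

variable {A : Type u} [CommRing A] (𝔞 : Ideal A)

theorem smulMod_psi (T : ModuleCat.{u} A) (a : A) :
    (PH.psiF 𝔞).map (a • 𝟙 T) = Formal.smulMod A (PH.psi 𝔞 T) a := by
  apply (SheafOfModules.toSheaf _).map_injective
  refine (LC15.PU.toSheaf_tilde_smul 𝔞 T a).trans ?_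
  rw [← LC15.PU.toGlobal_UU]
  rfl

theorem epi_psiF_map {T T' : ModuleCat.{u} A} (φ : T ⟶ T') (h : Function.Surjective φ) : Epi ((PH.psiF 𝔞).map φ) :=
  (PH.psiF_shortExact 𝔞 (LC15.seqSC_shortExact (Submodule.injective_subtype _)
    (LinearMap.exact_subtype_ker_map φ.hom) h)).epi_g

variable {M : Type u} [AddCommGroup M] [Module A M]

theorem π_subtype_zero {I : Ideal A} (hI : I.FG) (n : ℕ) :
    (PH.psiF 𝔞).map (ModuleCat.ofHom (I ^ n • (⊤ : Submodule A M)).subtype) ≫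
      Formal.modPowπ I n (PH.psi 𝔞 (ModuleCat.of A M)) = 0 := by
  classical
  obtain ⟨s, hs⟩ := Ideal.FG.pow (n := n) hI
  let K : Submodule A M := I ^ n • ⊤
  let t : s → ↥(I ^ n) := fun a => ⟨a.1, hs ▸ Ideal.subset_span a.2⟩
  let μ : (s → M) →ₗ[A] K := LinearMap.lsum A (fun _ : s => M) A fun a =>
    LinearMap.codRestrict K ((a : A) • LinearMap.id) fun x => Submodule.smul_mem_smul (t a).2 (Submodule.mem_top (x := x))
  have hval : ∀ v, (μ v : M) = ∑ a : s, (a : A) • v a := fun v => by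
    simp [μ, LinearMap.lsum_apply]
  have hμ : Function.Surjective μ := fun y => by
    have hy : (y : M) ∈ LinearMap.range (K.subtype ∘ₗ μ) := by
      refine Submodule.smul_induction_on y.2 (fun a ha m _ => ?_) fun _ _ => add_mem
      rw [← hs] at ha
      induction ha using Submodule.span_induction with
      | mem a ha =>
        refine ⟨Pi.single ⟨a, ha⟩ m, ?_⟩
        rw [LinearMap.comp_apply, Submodule.subtype_apply, hval, Finset.sum_eq_single ⟨a, ha⟩]
        · rw [Pi.single_eq_same]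
        · intro b _ hb
          rw [Pi.single_eq_of_ne hb, smul_zero]
        · simp
      | zero => simp
      | add a b _ _ ha hb => rw [add_smul]; exact add_mem ha hb
      | smul c a _ ha => rw [smul_assoc]; exact Submodule.smul_mem _ c ha
    obtain ⟨v, hv⟩ := hy
    exact ⟨v, Subtype.ext hv⟩
  haveI := epi_psiF_map 𝔞 (ModuleCat.ofHom μ) hμ
  rw [← cancel_epi ((PH.psiF 𝔞).map (ModuleCat.ofHom μ)), comp_zero, ← Category.assoc, ← Functor.map_comp]
  have e : ModuleCat.ofHom μ ≫ ModuleCat.ofHom K.subtype =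
      ∑ a : s, ModuleCat.ofHom (LinearMap.proj a : (s → M) →ₗ[A] M) ≫ ((a : A) • 𝟙 (ModuleCat.of A M)) := by
    ext v
    simp [hval]
  rw [e, Functor.map_sum, Preadditive.sum_comp]
  refine Finset.sum_eq_zero fun a _ => ?_
  rw [Functor.map_comp, smulMod_psi, Category.assoc]
  exact (congrArg (_ ≫ ·) (Formal27.smulMod_modPowπ I n (PH.psi 𝔞 (ModuleCat.of A M)) (t a).2)).trans comp_zero

theorem quotPowπ_trans (A : Type u) [CommRing A] (I : Ideal A) (M : Type u) [AddCommGroup M] [Module A M] (n : ℕ) :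
    Formal2.quotPowTrans A I M n ∘ₗ Formal2.quotPowπ A I M (n + 1) = Formal2.quotPowπ A I M n :=
  Submodule.mapQ_mkQ _ _ _

theorem mkQ_smul_zero (I : Ideal A) (n : ℕ) :
    Formal.smulFamily (I ^ n) (PH.psi 𝔞 (ModuleCat.of A M)) ≫
      (PH.psiF 𝔞).map (ModuleCat.ofHom (I ^ n • (⊤ : Submodule A M)).mkQ) = 0 :=
  Formal27.smulFamily_comp_eq_zero _ fun a ha => by
    rw [← smulMod_psi]
    refine ((PH.psiF 𝔞).map_comp _ _).symm.trans ?_
    have e : (a • 𝟙 (ModuleCat.of A M)) ≫ ModuleCat.ofHom (I ^ n • (⊤ : Submodule A M)).mkQ = 0 := by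
      ext m
      exact (Submodule.Quotient.mk_eq_zero _).mpr (Submodule.smul_mem_smul ha Submodule.mem_top)
    exact (congrArg (PH.psiF 𝔞).map e).trans ((PH.psiF 𝔞).map_zero _ _)

theorem exists_modPowIso {I : Ideal A} (hI : I.FG) (n : ℕ) :
    ∃ θ : Formal.modPow I n (PH.psi 𝔞 (ModuleCat.of A M)) ≅
        PH.psi 𝔞 (ModuleCat.of A (M ⧸ (I ^ n • (⊤ : Submodule A M)))),
      Formal.modPowπ I n (PH.psi 𝔞 (ModuleCat.of A M)) ≫ θ.hom =
        (PH.psiF 𝔞).map (ModuleCat.ofHom (I ^ n • (⊤ : Submodule A M)).mkQ) := by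
  have hS := PH.psiSC_shortExact 𝔞 (Submodule.injective_subtype (I ^ n • (⊤ : Submodule A M)))
    (LinearMap.exact_subtype_mkQ _) (Submodule.mkQ_surjective _)
  haveI := hS.epi_g
  let inv' : PH.psi 𝔞 (ModuleCat.of A (M ⧸ (I ^ n • (⊤ : Submodule A M)))) ⟶
      Formal.modPow I n (PH.psi 𝔞 (ModuleCat.of A M)) :=
    hS.gIsCokernel.desc (CokernelCofork.ofπ _ (π_subtype_zero 𝔞 hI n))
  have hinv : (PH.psiF 𝔞).map (ModuleCat.ofHom (I ^ n • (⊤ : Submodule A M)).mkQ) ≫ inv' =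
      Formal.modPowπ I n (PH.psi 𝔞 (ModuleCat.of A M)) :=
    Cofork.IsColimit.π_desc hS.gIsCokernel
  haveI : Epi ((PH.psiF 𝔞).map (ModuleCat.ofHom (I ^ n • (⊤ : Submodule A M)).mkQ)) := hS.epi_g
  refine ⟨⟨cokernel.desc _ _ (mkQ_smul_zero 𝔞 I n), inv', ?_, ?_⟩, cokernel.π_desc _ _ _⟩
  · refine (cancel_epi (Formal.modPowπ I n (PH.psi 𝔞 (ModuleCat.of A M)))).1 ?_
    exact ((Category.assoc _ _ _).symm.trans ((congrArg (· ≫ inv') (cokernel.π_desc _ _ _)).trans hinv)).trans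
      (Category.comp_id _).symm
  · refine (cancel_epi ((PH.psiF 𝔞).map (ModuleCat.ofHom (I ^ n • (⊤ : Submodule A M)).mkQ))).1 ?_
    exact ((Category.assoc _ _ _).symm.trans ((congrArg (· ≫ _) hinv).trans (cokernel.π_desc _ _ _))).trans
      (Category.comp_id _).symm

/-- `A~|_U = O_U`. -/
def unitIso : PH.psi 𝔞 (ModuleCat.of A A) ≅ Coh.structureModule (PH.US 𝔞) :=
  (Scheme.Modules.restrictFunctor (PH.UU 𝔞).ι).mapIso (tildeSelf (R := CommRingCat.of A)) ≪≫
    Scheme.Modules.restrictUnitIso (PH.UU 𝔞).ι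

theorem model_bij {I : Ideal A} (p : ℕ) (h : Formal2.FormalCohBijective A I M p (LocCoh.puncturedOpen A 𝔞)) :
    (∀ x : Coh.HH (PH.US 𝔞) (PH.psi 𝔞 (ModuleCat.of A M)) p,
      (∀ n, Crv77.hmap A ((PH.psiF 𝔞).map (ModuleCat.ofHom (Formal2.quotPowπ A I M n))) p x = 0) → x = 0) ∧
    ∀ σ : ∀ n, Coh.HH (PH.US 𝔞) (PH.psi 𝔞 (ModuleCat.of A (Formal2.quotPow A I M n))) p,
      (∀ n, Crv77.hmap A ((PH.psiF 𝔞).map (ModuleCat.ofHom (Formal2.quotPowTrans A I M n))) p (σ (n + 1)) = σ n) →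
        ∃ x, ∀ n, Crv77.hmap A ((PH.psiF 𝔞).map (ModuleCat.ofHom (Formal2.quotPowπ A I M n))) p x = σ n := by
  let e : ∀ n, Formal2.HV A (Formal2.quotPow A I M n) p (LocCoh.puncturedOpen A 𝔞) ≃+
      Coh.HH (PH.US 𝔞) (PH.psi 𝔞 (ModuleCat.of A (Formal2.quotPow A I M n))) p :=
    fun n => hvEquiv 𝔞 p (ModuleCat.of A (Formal2.quotPow A I M n))
  let e₀ : Formal2.HV A M p (LocCoh.puncturedOpen A 𝔞) ≃+ Coh.HH (PH.US 𝔞) (PH.psi 𝔞 (ModuleCat.of A M)) p :=
    hvEquiv 𝔞 p (ModuleCat.of A M)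
  have hπ : ∀ n x, e n (Formal2.HVmap A (Formal2.quotPowπ A I M n) p _ x) =
      Crv77.hmap A ((PH.psiF 𝔞).map (ModuleCat.ofHom (Formal2.quotPowπ A I M n))) p (e₀ x) := fun n x =>
    hvEquiv_map 𝔞 p (Formal2.quotPowπ A I M n) x
  have htr : ∀ n x, e n (Formal2.HVmap A (Formal2.quotPowTrans A I M n) p _ x) =
      Crv77.hmap A ((PH.psiF 𝔞).map (ModuleCat.ofHom (Formal2.quotPowTrans A I M n))) p (e (n + 1) x) := fun n x =>
    hvEquiv_map 𝔞 p (Formal2.quotPowTrans A I M n) x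
  refine ⟨fun x hx => ?_, fun σ hσ => ?_⟩
  · obtain ⟨x', rfl⟩ := e₀.surjective x
    refine (congrArg e₀ (h.1 x' 0 fun n => ?_)).trans e₀.map_zero
    refine (e n).injective ((hπ n x').trans ((hx n).trans ?_))
    exact ((congrArg (e n) (map_zero (Formal2.HVmap A (Formal2.quotPowπ A I M n) p _))).trans (e n).map_zero).symm
  · obtain ⟨x, hx⟩ := h.2 (fun n => (e n).symm (σ n)) fun n => (e n).injective ((htr n _).trans
      ((congrArg _ ((e (n + 1)).apply_symm_apply _)).trans ((hσ n).trans ((e n).apply_symm_apply _).symm)))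
    exact ⟨e₀ x, fun n => (hπ n x).symm.trans ((congrArg (e n) (hx n)).trans ((e n).apply_symm_apply _))⟩

theorem bijective_toHHlim_structureModule {I : Ideal A} (hI : I.FG)
    (h : Formal2.FormalCohBijective A I A 0 (LocCoh.puncturedOpen A 𝔞)) :
    Function.Bijective (Formal.toHHlim I (Coh.structureModule (PH.US 𝔞)) 0) := by
  choose η hη using fun n => exists_modPowIso (M := A) 𝔞 hI (n + 1)
  let θ : ∀ n, Formal.modPow I (n + 1) (Coh.structureModule (PH.US 𝔞)) ≅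
      PH.psi 𝔞 (ModuleCat.of A (Formal2.quotPow A I A n)) := fun n =>
    (asIso (Formal27.modPowMap I (n + 1) (unitIso 𝔞).inv)) ≪≫ η n
  have hπθ : ∀ n, Formal.modPowπ I (n + 1) (Coh.structureModule (PH.US 𝔞)) ≫ (θ n).hom =
      (unitIso 𝔞).inv ≫ (PH.psiF 𝔞).map (ModuleCat.ofHom (Formal2.quotPowπ A I A n)) := fun n => by
    refine ((Category.assoc _ _ _).symm.trans (congrArg (· ≫ (η n).hom)
      (Formal27.π_modPowMap I (n + 1) (unitIso 𝔞).inv))).trans ?_
    exact (Category.assoc _ _ _).trans (congrArg ((unitIso 𝔞).inv ≫ ·) (hη n))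
  refine bijective_toHHlim_of_model (unitIso 𝔞) _
    (fun n => (PH.psiF 𝔞).map (ModuleCat.ofHom (Formal2.quotPowπ A I A n)))
    (fun n => (PH.psiF 𝔞).map (ModuleCat.ofHom (Formal2.quotPowTrans A I A n))) θ
    (fun n => (congrArg ((unitIso 𝔞).hom ≫ ·) (hπθ n)).trans (Iso.hom_inv_id_assoc _ _)) (fun n => ?_)
    (model_bij 𝔞 0 h).1 (model_bij 𝔞 0 h).2
  refine (cancel_epi (Formal.modPowπ I (n + 1 + 1) (Coh.structureModule (PH.US 𝔞)))).1 ?_
  refine ((Category.assoc _ _ _).symm.trans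
      ((congrArg (· ≫ (θ n).hom) (Formal.modPowπ_trans _ _ _)).trans (hπθ n))).trans ?_
  refine Eq.trans ?_ ((congrArg (· ≫ (PH.psiF 𝔞).map (ModuleCat.ofHom (Formal2.quotPowTrans A I A n)))
      (hπθ (n + 1))).symm.trans (Category.assoc _ _ _))
  refine Eq.trans ?_ (Category.assoc _ _ _).symm
  refine congrArg ((unitIso 𝔞).inv ≫ ·) (Eq.trans ?_ ((PH.psiF 𝔞).map_comp _ _))
  exact congrArg (fun l => (PH.psiF 𝔞).map (ModuleCat.ofHom l)) (quotPowπ_trans A I A n).symm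

theorem isNoetherian_US [IsNoetherianRing A] : IsNoetherian (PH.US 𝔞) := by
  haveI := AlgebraicGeometry.isLocallyNoetherian_of_isOpenImmersion (PH.UU 𝔞).ι
  haveI : CompactSpace (PH.US 𝔞) :=
    isCompact_iff_compactSpace.mp (LC15.PU.isCompact_UU 𝔞 (IsNoetherian.noetherian 𝔞))
  exact ⟨⟩

/-- Full faithfulness of completion from formal sections of `A`. -/
theorem fullyFaithful_of_formalCohBijective [IsNoetherianRing A] {I : Ideal A}
    (h : Formal2.FormalCohBijective A I A 0 (LocCoh.puncturedOpen A 𝔞))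
    (E E' : (PH.US 𝔞).Modules) (hE : FlatMod.IsFinLocFree E) (hE' : FlatMod.IsFinLocFree E')
    (ψ : Formal.completion I E ⟶ Formal.completion I E') :
    ∃! φ : E ⟶ E', ∀ n : ℕ, Formal.modPowπ I (n + 1) E ≫ ψ.app (op n) = φ ≫ Formal.modPowπ I (n + 1) E' := by
  haveI := isNoetherian_US 𝔞
  haveI : (PH.US 𝔞).IsQuasiAffine := Scheme.IsQuasiAffine.of_isImmersion (PH.UU 𝔞).ι
  exact Formal27.existsUnique_of_sections hE hE'
    (Formal27.bijective_of_quasiAffine (bijective_toHHlim_structureModule 𝔞 (IsNoetherian.noetherian I) h)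
      (Formal27.isFinLocFree_homMod hE hE')) ψ

end Groth.Agent.FormalLC27
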