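import Groth.Agent.LC15.DualFaltings
import Groth.Agent.FormalLC27.ModPow
import Groth.Agent.FormalLC27.Main

/-!
Killing local cohomology by powers of `f` from the annihilator theorem.
-/

set_option autoImplicit false

universe u

open CategoryTheory

attribute [local instance] HasDerivedCategory.standard

namespace Groth.Agent.FormalLC27

variable {A : Type u} [CommRing A] [IsNoetherianRing A]

omit [IsNoetherianRing A] in
theorem dimBetween_le_krullDim (p q : PrimeSpectrum A) :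
    Formal2.dimBetween A p.asIdeal q.asIdeal ≤ Order.krullDim (Set.Icc p q) := by
  let S := Localization.AtPrime q.asIdeal
  let K : Ideal S := p.asIdeal.map (algebraMap A S)
  let g : PrimeSpectrum (S ⧸ K) → PrimeSpectrum A := fun P =>
    PrimeSpectrum.comap (algebraMap A S) (PrimeSpectrum.comap (Ideal.Quotient.mk K) P)
  have hg : ∀ P, g P ∈ Set.Icc p q := fun P => ⟨fun x hx => by
      change Ideal.Quotient.mk K (algebraMap A S x) ∈ P.asIdeal
      rw [Ideal.Quotient.eq_zero_iff_mem.mpr (Ideal.mem_map_of_mem _ hx)]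
      exact zero_mem _,
    fun x hx => by
      by_contra hxq
      have hu : IsUnit (algebraMap A S x) := IsLocalization.map_units S (⟨x, hxq⟩ : q.asIdeal.primeCompl)
      exact P.isPrime.ne_top (Ideal.eq_top_of_isUnit_mem _ hx (hu.map (Ideal.Quotient.mk K)))⟩
  refine Order.krullDim_le_of_strictMono (fun P => (⟨g P, hg P⟩ : Set.Icc p q)) fun P P' h => ?_
  have hmono : g P ≤ g P' := Ideal.comap_mono (Ideal.comap_mono (le_of_lt h))
  refine lt_of_le_of_ne hmono fun e => h.ne ?_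
  exact PrimeSpectrum.comap_injective_of_surjective _ Ideal.Quotient.mk_surjective
    (PrimeSpectrum.localization_comap_injective S q.asIdeal.primeCompl (congrArg Subtype.val e))

theorem kill_H_of_kill_HT {𝔞 : Ideal A} {M : Type u} [AddCommGroup M] [Module A M] {i : ℕ} {a : A}
    (h : ∀ x : Dual2.HT (PrimeSpectrum.zeroLocus (𝔞 : Set A)) i M, a • x = 0) (x : LocCoh.H 𝔞 i M) :
    a • x = 0 := by
  obtain ⟨n, y, rfl⟩ := LC15.toH_surj 𝔞 i M x
  rcases Nat.eq_zero_or_pos n with rfl | hn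
  · have : Subsingleton (A ⧸ 𝔞 ^ 0) := Ideal.Quotient.subsingleton_iff.mpr (by simp)
    have hz : CategoryTheory.Limits.IsZero (LC15.quotPow 𝔞 0) := ModuleCat.isZero_of_subsingleton _
    rw [show y = 0 by
      rw [← Abelian.Ext.mk₀_id_comp y, hz.eq_of_src (𝟙 _) 0, Abelian.Ext.mk₀_zero, Abelian.Ext.zero_comp]]
    rw [map_zero, smul_zero]
  have hle : PrimeSpectrum.zeroLocus ((𝔞 ^ n : Ideal A) : Set A) ⊆ PrimeSpectrum.zeroLocus (𝔞 : Set A) := by
    rw [PrimeSpectrum.zeroLocus_pow _ hn.ne']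
  let J : Dual2.IdealsIn (PrimeSpectrum.zeroLocus (𝔞 : Set A)) := LC15.HT.mkI (𝔞 ^ n) hle
  let y' : Abelian.Ext (LC15.HT.qI J) (ModuleCat.of A M) i := y
  have h' : LC15.HT.toT _ i M J (a • y') = 0 := (map_smul (LC15.HT.toT _ i M J) a y').trans (h _)
  obtain ⟨K, hK, hKy⟩ := (LC15.HT.toT_eq_zero_iff i M (a • y')).mp h'
  obtain ⟨k, hk⟩ := Ideal.exists_pow_le_of_le_radical_of_fg
    (show 𝔞 ≤ (LC15.HT.idl K).radical from (PrimeSpectrum.zeroLocus_subset_zeroLocus_iff _ _).mp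
      (LC15.HT.zeroLocus_idl K)) (IsNoetherian.noetherian 𝔞)
  rw [← map_smul, LC15.toH_eq_zero_iff]
  refine ⟨n + k, Nat.le_add_right n k, ?_⟩
  let r : LC15.quotPow 𝔞 (n + k) ⟶ LC15.HT.qI K :=
    ModuleCat.ofHom (Submodule.mapQ _ _ LinearMap.id ((Ideal.pow_le_pow_right (Nat.le_add_left k n)).trans hk))
  have e : LC15.qmap 𝔞 (Nat.le_add_right n k) = r ≫ LC15.HT.qle hK := by
    refine ModuleCat.hom_ext (Submodule.linearMap_qext _ (LinearMap.ext fun x => ?_))
    rfl
  rw [e]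
  change (Abelian.Ext.mk₀ (r ≫ LC15.HT.qle hK)).comp (a • y') (zero_add i) = 0
  rw [← Abelian.Ext.mk₀_comp_mk₀, Abelian.Ext.comp_assoc (Abelian.Ext.mk₀ r) (Abelian.Ext.mk₀ (LC15.HT.qle hK))
    (a • y') (zero_add 0) (zero_add i) (by omega)]
  exact (congrArg (fun z => (Abelian.Ext.mk₀ r).comp z (zero_add i)) hKy).trans (Abelian.Ext.comp_zero _ _ _ _ _)

theorem exists_pow_kill (hω : ∃ ω : Dual.D A, Dual.IsDualizing A ω) (𝔞 : Ideal A) (f : A) (s : ℕ)
    (M : Type u) [AddCommGroup M] [Module A M] [Module.Finite A M]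
    (h : ∀ (p : Ideal A) [p.IsPrime], f ∉ p → ∀ (q : Ideal A) [q.IsPrime], p ≤ q → 𝔞 ≤ q →
      (s : WithBot ℕ∞) < ((LocCoh.depth (Localization.AtPrime p)
        (LocalizedModule p.primeCompl M) : ℕ∞) : WithBot ℕ∞) + Formal2.dimBetween A p q)
    (i : ℕ) (hi : i ≤ s) : ∃ n : ℕ, ∀ x : LocCoh.H 𝔞 i M, f ^ n • x = 0 := by
  obtain ⟨ω, hω⟩ := hω
  have hcl : ∀ I : Set A, StableUnderSpecialization (PrimeSpectrum.zeroLocus I) := fun I =>
    (PrimeSpectrum.isClosed_zeroLocus I).stableUnderSpecialization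
  obtain ⟨J, hJ, hJkill⟩ := (LC15.DualFaltings.annihilator_HT_iff hω (T := PrimeSpectrum.zeroLocus (𝔞 : Set A))
    (T' := PrimeSpectrum.zeroLocus ({f} : Set A)) (hcl _) (hcl _) s (M := M)).mpr
    ((LC15.DualFaltings.cond_iff_krullDim hω s).mpr fun p q hp hq hpq => by
      refine lt_of_lt_of_le (h p.asIdeal (fun hfp => hp (Set.singleton_subset_iff.mpr hfp)) q.asIdeal hpq hq) ?_
      exact add_le_add le_rfl (dimBetween_le_krullDim p q))
  have hfJ : f ∈ J.radical := by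
    rw [← PrimeSpectrum.vanishingIdeal_zeroLocus_eq_radical, PrimeSpectrum.mem_vanishingIdeal]
    intro x hx
    exact hJ hx (Set.mem_singleton f)
  obtain ⟨n, hn⟩ := hfJ
  exact ⟨n, fun x => kill_H_of_kill_HT (fun y => hJkill i hi _ hn y) x⟩

end Groth.Agent.FormalLC27
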